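import Groth.Prelude.Def_GLinSh
import Groth.Agent.GITQuot.BaseChange
import Groth.Agent.RingPO.Props2

/-!
# A line bundle on the quotient gives a linearised line bundle upstairs
-/

set_option autoImplicit false
set_option backward.isDefEq.respectTransparency false
set_option backward.isDefEq.respectTransparency.types false
set_option linter.style.haveILetI false

universe u

open CategoryTheory CategoryTheory.Limits MonoidalCategory CartesianMonoidalCategory MonObj AlgebraicGeometry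
  Opposite TopologicalSpace

noncomputable section

namespace Groth.Agent.GITLin

theorem appLE_comp_apply {A B C : Scheme.{u}} (f : A ⟶ B) (g : B ⟶ C) (h : A ⟶ C) (e : f ≫ g = h) {U : C.Opens}
    {V : B.Opens} {W : A.Opens} (h₁ : V ≤ g ⁻¹ᵁ U) (h₂ : W ≤ f ⁻¹ᵁ V) (h₃ : W ≤ h ⁻¹ᵁ U) (x : Γ(C, U)) :
    f.appLE V W h₂ (g.appLE U V h₁ x) = h.appLE U W h₃ x := by
  subst e
  exact ConcreteCategory.congr_hom (Scheme.Hom.appLE_comp_appLE f g _ _ _ h₁ h₂) x

theorem appLE_res_apply {A B : Scheme.{u}} (f : A ⟶ B) {U U' : B.Opens} {W : A.Opens} (i : U' ≤ U)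
    (h : W ≤ f ⁻¹ᵁ U') (x : Γ(B, U)) :
    f.appLE U' W h (B.presheaf.map (homOfLE i).op x) = f.appLE U W (h.trans (f.preimage_mono i)) x :=
  ConcreteCategory.congr_hom (f.map_appLE h (homOfLE i).op) x

theorem res_appLE_apply {A B : Scheme.{u}} (f : A ⟶ B) {U : B.Opens} {W W' : A.Opens} (i : W' ≤ W)
    (h : W ≤ f ⁻¹ᵁ U) (x : Γ(B, U)) :
    A.presheaf.map (homOfLE i).op (f.appLE U W h x) = f.appLE U W' (i.trans h) x :=
  ConcreteCategory.congr_hom (f.appLE_map h (homOfLE i).op) x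

theorem appLE_congr_hom {A B : Scheme.{u}} {f g : A ⟶ B} (e : f = g) {U : B.Opens} {W : A.Opens}
    (h : W ≤ f ⁻¹ᵁ U) (h' : W ≤ g ⁻¹ᵁ U) (x : Γ(B, U)) : f.appLE U W h x = g.appLE U W h' x := by
  subst e; rfl

/-- A polynomial algebra stays one after base change. -/
theorem bijective_eval₂_of_isPushout {R B N P : CommRingCat.{u}} {f : R ⟶ B} {g : R ⟶ N} {i : B ⟶ P}
    {i' : N ⟶ P} (h : IsPushout f g i i') (y : N) (hy : Function.Bijective (Polynomial.eval₂RingHom g.hom y)) :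
    Function.Bijective (Polynomial.eval₂RingHom i.hom (i' y)) := by
  let e := RingEquiv.ofBijective _ hy
  have heC : ∀ r, e.symm (g r) = Polynomial.C r := fun r => e.symm_apply_eq.2 (by simp [e])
  have heX : e.symm y = Polynomial.X := e.symm_apply_eq.2 (by simp [e])
  let d : P ⟶ CommRingCat.of (Polynomial B) := h.desc (CommRingCat.ofHom Polynomial.C)
    (CommRingCat.ofHom ((Polynomial.mapRingHom f.hom).comp e.symm.toRingHom)) (by
      refine CommRingCat.hom_ext (RingHom.ext fun r => ?_)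
      show Polynomial.C (f r) = Polynomial.map f.hom (e.symm (g r))
      rw [heC, Polynomial.map_C])
  have hd1 : ∀ b, d (i b) = Polynomial.C b := fun b => ConcreteCategory.congr_hom (h.inl_desc _ _ _) b
  have hd2 : ∀ n, d (i' n) = Polynomial.map f.hom (e.symm n) := fun n =>
    ConcreteCategory.congr_hom (h.inr_desc _ _ _) n
  have h1 : d.hom.comp (Polynomial.eval₂RingHom i.hom (i' y)) = RingHom.id _ := by
    refine Polynomial.ringHom_ext (fun r => ?_) ?_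
    · simpa using hd1 r
    · simp only [RingHom.coe_comp, Function.comp_apply, Polynomial.coe_eval₂RingHom, Polynomial.eval₂_X,
        RingHom.id_apply]
      rw [hd2, heX, Polynomial.map_X]
  have h2 : d ≫ CommRingCat.ofHom (Polynomial.eval₂RingHom i.hom (i' y)) = 𝟙 P := by
    apply h.hom_ext
    · ext b
      show Polynomial.eval₂ i.hom (i' y) (d (i b)) = i b
      rw [hd1, Polynomial.eval₂_C]
    · ext n
      show Polynomial.eval₂ i.hom (i' y) (d (i' n)) = i' n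
      rw [hd2, Polynomial.eval₂_map]
      have hcomp : i.hom.comp f.hom = i'.hom.comp g.hom := congrArg CommRingCat.Hom.hom h.w
      rw [hcomp, ← Polynomial.hom_eval₂]
      exact congrArg i'.hom (e.apply_symm_apply n)
  exact ⟨Function.LeftInverse.injective (g := d) (RingHom.congr_fun h1),
    Function.RightInverse.surjective (g := d) (fun p => ConcreteCategory.congr_hom h2 p)⟩

variable {S : Scheme.{u}} {G X Y W₀ V : Over S} [GrpObj G] {a : AlgGrp.Action G X} {φ : X ⟶ Y} {π₀ : W₀ ⟶ Y}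
  {π : V ⟶ X} {pr : V ⟶ W₀}

/-- The pulled-back coordinates. -/
def pullChart (hw : π ≫ φ = pr ≫ π₀) (A₀ : GLinSh.LinAtlas π₀) (U : X.left.Opens) :
    Set Γ(V.left, π.left ⁻¹ᵁ U) :=
  {y | ∃ (U₀ : Y.left.Opens) (y₀ : Γ(W₀.left, π₀.left ⁻¹ᵁ U₀)) (hU : U ≤ φ.left ⁻¹ᵁ U₀),
    (∃ U₂ : Y.left.Opens, IsAffineOpen U₂ ∧ U₂ ≤ U₀ ∧ U ≤ φ.left ⁻¹ᵁ U₂) ∧ y₀ ∈ A₀.chart U₀ ∧
      y = pr.left.appLE (π₀.left ⁻¹ᵁ U₀) (π.left ⁻¹ᵁ U) (by
        rw [← Scheme.Hom.comp_preimage, ← Over.comp_left, ← hw, Over.comp_left, Scheme.Hom.comp_preimage]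
        exact π.left.preimage_mono hU) y₀}

theorem pr_le (hw : π ≫ φ = pr ≫ π₀) {U : X.left.Opens} {U₀ : Y.left.Opens} (hU : U ≤ φ.left ⁻¹ᵁ U₀) :
    π.left ⁻¹ᵁ U ≤ pr.left ⁻¹ᵁ (π₀.left ⁻¹ᵁ U₀) := by
  rw [← Scheme.Hom.comp_preimage, ← Over.comp_left, ← hw, Over.comp_left, Scheme.Hom.comp_preimage]
  exact π.left.preimage_mono hU

variable (hpb : IsPullback π pr φ π₀) (A₀ : GLinSh.LinAtlas π₀)

/-- The pulled-back atlas. -/
def pullAtlas : GLinSh.LinAtlas π where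
  affine := by
    haveI := A₀.affine
    exact MorphismProperty.of_isPullback (P := @IsAffineHom) (hpb.map (Over.forget S)).flip A₀.affine
  chart := pullChart hpb.w A₀
  cover x := by
    obtain ⟨U₁, hx₁, y₁, hy₁⟩ := A₀.cover (φ.left.base x)
    obtain ⟨_, ⟨U₀, hU₀, rfl⟩, hx₀, hle⟩ :=
      Y.left.isBasis_affineOpens.exists_subset_of_mem_open (show φ.left.base x ∈ U₁ from hx₁) U₁.2
    exact ⟨φ.left ⁻¹ᵁ U₀, hx₀, _, U₁, y₁, φ.left.preimage_mono hle, ⟨U₀, hU₀, hle, le_rfl⟩, hy₁, rfl⟩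
  coord := by
    rintro U _ ⟨U₀, y₀, hU, ⟨U₂, hU₂, h2, hU2⟩, hy₀, rfl⟩ W hW hWU
    haveI : IsAffineHom π₀.left := A₀.affine
    have hl : IsPullback π.left pr.left φ.left π₀.left := hpb.map (Over.forget S)
    haveI : IsAffineHom π.left := MorphismProperty.of_isPullback (P := @IsAffineHom) hl.flip A₀.affine
    have hWe : W ≤ φ.left ⁻¹ᵁ U₂ := hWU.trans hU2
    have hb := A₀.coord U₀ y₀ hy₀ U₂ hU₂ h2
    rw [Scheme.Hom.app_eq_appLE] at hb
    have hpo := RingPO.isPushout_appLE_of_isPullback hl hU₂ hW hWe (hU₂.preimage π₀.left) rfl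
      (hW.preimage π.left) rfl (pr_le hpb.w hWe)
    have hbij := bijective_eval₂_of_isPushout hpo _ hb
    rw [appLE_res_apply] at hbij
    simp only [GLinSh.res, res_appLE_apply, Scheme.Hom.app_eq_appLE]
    exact hbij
  linear := by
    rintro U U' _ _ ⟨U₀, y₀, hU, hU₀, hy₀, rfl⟩ ⟨U₀', y₀', hU', hU₀', hy₀', rfl⟩
    obtain ⟨c, hc, hcy⟩ := A₀.linear U₀ U₀' y₀ y₀' hy₀ hy₀'
    have hle : U ⊓ U' ≤ φ.left ⁻¹ᵁ (U₀ ⊓ U₀') := le_inf (inf_le_left.trans hU) (inf_le_right.trans hU')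
    refine ⟨φ.left.appLE _ _ hle c, hc.map _, ?_⟩
    have h := congrArg (pr.left.appLE _ (π.left ⁻¹ᵁ (U ⊓ U')) (pr_le hpb.w hle)) hcy
    simp only [GLinSh.res, map_mul, appLE_res_apply, Scheme.Hom.app_eq_appLE] at h
    simp only [GLinSh.res, res_appLE_apply, Scheme.Hom.app_eq_appLE]
    rw [h, appLE_comp_apply π.left φ.left _ (congrArg CommaMorphism.left hpb.w) hle le_rfl (pr_le hpb.w hle),
      appLE_comp_apply pr.left π₀.left _ rfl le_rfl (pr_le hpb.w hle) (pr_le hpb.w hle)]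
    rfl

/-- A pulled-back function keeps its weight. -/
theorem hasWeight_pull {n : ℕ} {f : Γ(W₀.left, ⊤)} (hf : GLinSh.HasWeight A₀.chart n f) :
    GLinSh.HasWeight (pullAtlas hpb A₀).chart n (pr.left.appTop f) := by
  rintro U _ ⟨U₀, y₀, hU, hU₀, hy₀, rfl⟩
  obtain ⟨c, hc⟩ := hf U₀ y₀ hy₀
  refine ⟨φ.left.appLE U₀ U hU c, ?_⟩
  have h := congrArg (pr.left.appLE _ (π.left ⁻¹ᵁ U) (pr_le hpb.w hU)) hc
  simp only [GLinSh.resTop, map_mul, map_pow, appLE_res_apply, Scheme.Hom.app_eq_appLE] at h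
  simp only [GLinSh.resTop, Scheme.Hom.appTop, Scheme.Hom.app_eq_appLE]
  rw [appLE_comp_apply π.left φ.left _ (congrArg CommaMorphism.left hpb.w) hU le_rfl (pr_le hpb.w hU)]
  rw [appLE_comp_apply pr.left π₀.left _ rfl le_rfl (pr_le hpb.w hU) (pr_le hpb.w hU)] at h
  exact (res_appLE_apply pr.left (le_top : π.left ⁻¹ᵁ U ≤ _) (le_refl (pr.left ⁻¹ᵁ ⊤)) f).trans h

include hpb in
theorem nonvanishing_pull (f : Γ(W₀.left, ⊤)) :
    GLinSh.nonvanishing π (pr.left.appTop f) = φ.left.base ⁻¹' GLinSh.nonvanishing π₀ f := by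
  have h : (V.left.basicOpen (pr.left.appTop f) : Set V.left) = pr.left.base ⁻¹' (W₀.left.basicOpen f : Set W₀.left) := by
    rw [← Scheme.preimage_basicOpen_top]
    rfl
  rw [GLinSh.nonvanishing, GLinSh.nonvanishing, h]
  exact Scheme.image_preimage_eq_of_isPullback (hpb.map (Over.forget S)).flip _

include hpb in
/-- The linearised line bundle obtained from a line bundle on the target of an invariant morphism. -/
theorem exists_linBun (hi : GIT.IsInvariant a φ) :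
    ∃ B : GLinSh.LinBun G a, ∀ (n : ℕ) (f : Γ(W₀.left, ⊤)), GLinSh.HasWeight A₀.chart n f →
      ∃ f' : Γ(B.V.left, ⊤), B.IsInvSection n f' ∧
        GLinSh.nonvanishing B.π f' = φ.left.base ⁻¹' GLinSh.nonvanishing π₀ f := by
  obtain ⟨Φ, hΦ, hΦi⟩ := GITQuot.exists_action hi hpb
  refine ⟨⟨V, π, pullAtlas hpb A₀, Φ, hΦ, ?_⟩, fun n f hf => ⟨pr.left.appTop f, ⟨hasWeight_pull hpb A₀ hf, ?_⟩,
    nonvanishing_pull hpb f⟩⟩
  · rintro U U' _ _ ⟨U₀, y₀, hU, hU₀, hy₀, rfl⟩ ⟨U₀', y₀', hU', hU₀', hy₀', rfl⟩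
    obtain ⟨c₀, -, hcy⟩ := A₀.linear U₀ U₀' y₀ y₀' hy₀ hy₀'
    have hle : a.act.left ⁻¹ᵁ U' ⊓ (snd G X).left ⁻¹ᵁ U ≤ ((snd G X).left ≫ φ.left) ⁻¹ᵁ (U₀ ⊓ U₀') := by
      show _ ≤ ((snd G X).left ≫ φ.left) ⁻¹ᵁ U₀ ⊓ ((snd G X).left ≫ φ.left) ⁻¹ᵁ U₀'
      refine le_inf (inf_le_right.trans ?_) (inf_le_left.trans ?_)
      · exact (snd G X).left.preimage_mono hU
      · refine (a.act.left.preimage_mono hU').trans (le_of_eq ?_)
        rw [← Scheme.Hom.comp_preimage, hi.left]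
    refine ⟨((snd G X).left ≫ φ.left).appLE _ _ hle c₀, ?_⟩
    let O := GLinSh.liftOpen a π U U'
    have hO : O ≤ (snd G V ≫ pr).left ⁻¹ᵁ (π₀.left ⁻¹ᵁ (U₀ ⊓ U₀')) := by
      refine ((GLinSh.liftOpen_le_base a π).trans ((G ◁ π).left.preimage_mono hle)).trans (le_of_eq ?_)
      rw [← Scheme.Hom.comp_preimage, ← Scheme.Hom.comp_preimage, ← Over.comp_left, ← Over.comp_left, ← Over.comp_left,
        Category.assoc, ← hpb.w, whiskerLeft_snd_assoc]
    have h := congrArg ((snd G V ≫ pr).left.appLE _ O hO) hcy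
    simp only [GLinSh.res, map_mul, appLE_res_apply, Scheme.Hom.app_eq_appLE] at h
    have hy' : Φ.act.left.appLE (π.left ⁻¹ᵁ U') O (GLinSh.liftOpen_le_act a π Φ hΦ)
        (pr.left.appLE (π₀.left ⁻¹ᵁ U₀') (π.left ⁻¹ᵁ U') (pr_le hpb.w hU') y₀') =
        (snd G V ≫ pr).left.appLE (π₀.left ⁻¹ᵁ U₀') O (hO.trans ((snd G V ≫ pr).left.preimage_mono
          (π₀.left.preimage_mono inf_le_right))) y₀' :=
      appLE_comp_apply _ _ _ (congrArg CommaMorphism.left hΦi) _ _ _ _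
    have hy : (snd G V).left.appLE (π.left ⁻¹ᵁ U) O (GLinSh.liftOpen_le_snd a π)
        (pr.left.appLE (π₀.left ⁻¹ᵁ U₀) (π.left ⁻¹ᵁ U) (pr_le hpb.w hU) y₀) =
        (snd G V ≫ pr).left.appLE (π₀.left ⁻¹ᵁ U₀) O (hO.trans ((snd G V ≫ pr).left.preimage_mono
          (π₀.left.preimage_mono inf_le_left))) y₀ :=
      appLE_comp_apply _ _ _ rfl _ _ _ _
    have hc : (G ◁ π).left.appLE _ O (GLinSh.liftOpen_le_base a π)
        (((snd G X).left ≫ φ.left).appLE _ _ hle c₀) =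
        (snd G V ≫ pr).left.appLE _ O hO (π₀.left.appLE _ _ le_rfl c₀) := by
      rw [appLE_comp_apply (G ◁ π).left ((snd G X).left ≫ φ.left) ((snd G V ≫ pr) ≫ π₀).left
          (by rw [← Over.comp_left, ← Over.comp_left, Category.assoc, ← hpb.w, whiskerLeft_snd_assoc])
          hle (GLinSh.liftOpen_le_base a π) hO]
      exact (appLE_comp_apply (snd G V ≫ pr).left π₀.left _ rfl le_rfl hO hO c₀).symm
    rw [hy', hy, hc]
    exact h
  · show Φ.act.left.appTop (pr.left.appTop f) = (snd G V).left.appTop (pr.left.appTop f)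
    rw [← CommRingCat.comp_apply, ← CommRingCat.comp_apply, ← Scheme.Hom.comp_appTop, ← Scheme.Hom.comp_appTop,
      ← Over.comp_left, ← Over.comp_left, hΦi]

end Groth.Agent.GITLin
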