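import Groth.Prelude.Def_GLinSh
import Groth.Agent.RelSpecX.Gamma
import Groth.Agent.RelSpecX.AffHom
import Groth.Agent.SymAlgX.Exists
import Groth.Agent.RelSpecX.Spec
import Groth.Agent.InvX.GenLocus

/-!
# The total space of an invertible module as a line bundle with a linear atlas
-/

set_option autoImplicit false
set_option backward.isDefEq.respectTransparency false
set_option backward.isDefEq.respectTransparency.types false
set_option linter.style.haveILetI false

universe u

open CategoryTheory CategoryTheory.Limits AlgebraicGeometry TopologicalSpace Opposite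

noncomputable section

namespace Groth.Agent.GITLin

open Groth.Agent.AModX Groth.Agent.SymAlgX Groth.Agent.RelSpecX
open Groth.Agent.QCoh (rB)

variable {Y : Scheme.{u}} {E : Y.Modules} (A : RelSpec.QCAlg Y) (j : E ⟶ A.toModule)

/-- The functions over the preimage of an open, as the algebra. -/
def gI (U : Y.Opens) : A.presheaf.obj (op U) →+* Γ(A.spec, A.π ⁻¹ᵁ U) :=
  ((inv A.gammaMap).app (op U)).hom

theorem gI_str (U : Y.Opens) (r : Γ(Y, U)) : gI A U ((A.str.app (op U)).hom r) = A.π.app U r := by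
  have h : (A.π.c ≫ A.gammaMap) ≫ inv A.gammaMap = A.str ≫ inv A.gammaMap := by rw [A.π_c_gammaMap]
  rw [Category.assoc, IsIso.hom_inv_id, Category.comp_id] at h
  exact (ConcreteCategory.congr_hom (NatTrans.congr_app h (op U)) r).symm

theorem gI_bijective (U : Y.Opens) : Function.Bijective (gI A U) :=
  (ConcreteCategory.isIso_iff_bijective ((inv A.gammaMap).app (op U))).1 inferInstance

theorem gI_res {U V : Y.Opens} (h : V ≤ U) (b : A.presheaf.obj (op U)) :
    A.spec.presheaf.map (homOfLE (A.π.preimage_mono h)).op (gI A U b) = gI A V (rB A h b) :=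
  (ConcreteCategory.congr_hom ((inv A.gammaMap).naturality (homOfLE h).op) b).symm

/-- The tautological functions on the total space. -/
def tau (U : Y.Opens) (e : Γ(E, U)) : Γ(A.spec, A.π ⁻¹ᵁ U) := gI A U (jv A j U e)

theorem tau_res {U V : Y.Opens} (h : V ≤ U) (e : Γ(E, U)) :
    A.spec.presheaf.map (homOfLE (A.π.preimage_mono h)).op (tau A j U e) = tau A j V (res E h e) := by
  rw [tau, tau, gI_res, rB_jv]
  rfl

theorem tau_smul {U : Y.Opens} (r : Γ(Y, U)) (e : Γ(E, U)) :
    tau A j U (r • e) = A.π.app U r * tau A j U e := by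
  rw [tau, tau, ← gI_str, ← map_mul]
  exact congrArg (gI A U) (Scheme.Modules.Hom.app_smul j _ _)

section Coord

variable {A j} (hE : Coh.IsQCoh E) (hA : RelSpec.IsSymAlg E A j)

include hE hA in
/-- Over an affine open with a frame the functions upstairs are polynomials in the tautological one. -/
theorem bijective_eval₂_tau {W : Y.Opens} (hW : IsAffineOpen W) {e : Γ(E, W)} (he : InvX.IsFrame e) :
    Function.Bijective (Polynomial.eval₂RingHom (A.π.app W).hom (tau A j W e)) := by
  have he' : Function.Bijective fun r : Γ(Y, W) => r • e := by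
    have := he W le_rfl
    simpa only [res_self] using this
  let co : Γ(E, W) ≃+ Γ(Y, W) :=
    (AddEquiv.ofBijective (AddMonoidHom.mk' (fun r : Γ(Y, W) => r • e) fun r r' => add_smul r r' e) he').symm
  have hco : ∀ x, co x • e = x := fun x =>
    (AddEquiv.ofBijective (AddMonoidHom.mk' (fun r : Γ(Y, W) => r • e) fun r r' => add_smul r r' e) he').apply_symm_apply x
  have hco' : ∀ r : Γ(Y, W), co (r • e) = r := fun r => he'.1 (hco (r • e))
  let toP : SymAt E W →+* Polynomial Γ(Y, W) :=
    liftHom (Polynomial.C) (AddMonoidHom.mk' (fun x => Polynomial.C (co x) * Polynomial.X) fun x y => by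
      rw [map_add, map_add, add_mul]) fun r x => by
      show Polynomial.C (co (r • x)) * Polynomial.X = Polynomial.C r * (Polynomial.C (co x) * Polynomial.X)
      rw [← mul_assoc, ← map_mul]
      congr 2
      refine he'.1 ?_
      show co (r • x) • e = (r * co x) • e
      rw [hco, mul_smul, hco]
  let ofP : Polynomial Γ(Y, W) →+* SymAt E W :=
    Polynomial.eval₂RingHom (algebraMap _ _) (SymmetricAlgebra.ι _ _ e)
  have h1 : toP.comp ofP = RingHom.id _ := by
    refine Polynomial.ringHom_ext (fun r => ?_) ?_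
    · simp [ofP, toP, liftHom_algebraMap]
    · simp only [ofP, toP, RingHom.coe_comp, Function.comp_apply, Polynomial.coe_eval₂RingHom,
        Polynomial.eval₂_X, RingHom.id_apply, liftHom_ι, AddMonoidHom.mk'_apply]
      rw [show co e = 1 from he'.1 (by show co e • e = 1 • e; rw [hco, one_smul]), map_one, one_mul]
  have h2 : ofP.comp toP = RingHom.id _ := by
    refine symHom_ext (fun r => ?_) fun x => ?_
    · simp [ofP, toP, liftHom_algebraMap]
    · simp only [ofP, toP, RingHom.coe_comp, Function.comp_apply, Polynomial.coe_eval₂RingHom,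
        RingHom.id_apply, liftHom_ι, AddMonoidHom.mk'_apply, Polynomial.eval₂_mul, Polynomial.eval₂_C,
        Polynomial.eval₂_X]
      rw [← Algebra.smul_def, ← map_smul, hco]
  have hofP : Function.Bijective ofP :=
    ⟨Function.LeftInverse.injective (g := toP) (RingHom.congr_fun h1),
      Function.RightInverse.surjective (g := toP) (RingHom.congr_fun h2)⟩
  have hfac : Polynomial.eval₂RingHom (A.π.app W).hom (tau A j W e) = ((gI A W).comp (liftAt A j W)).comp ofP := by
    refine Polynomial.ringHom_ext (fun r => ?_) ?_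
    · simp only [ofP, RingHom.coe_comp, Function.comp_apply, Polynomial.coe_eval₂RingHom, Polynomial.eval₂_C,
        liftAt_algebraMap]
      exact (gI_str A W r).symm
    · simp [ofP, tau, liftAt_ι]
  rw [hfac]
  exact ((gI_bijective A W).comp (liftAt_bijective hE A hA hW)).comp hofP

end Coord

section Atlas

variable {S : Scheme.{u}} (Y' : Over S) {E' : Y'.left.Modules} (A' : RelSpec.QCAlg Y'.left)
  (j' : E' ⟶ A'.toModule)

/-- The total space as an object over the base. -/
abbrev totObj : Over S := Over.mk (A'.π ≫ Y'.hom)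

/-- The projection of the total space. -/
abbrev totHom : totObj Y' A' ⟶ Y' := Over.homMk A'.π rfl

/-- The admissible coordinates: tautological functions of frames. -/
def chart (U : Y'.left.Opens) : Set Γ((totObj Y' A').left, (totHom Y' A').left ⁻¹ᵁ U) :=
  {y | ∃ e : Γ(E', U), InvX.IsFrame e ∧ y = tau A' j' U e}

variable {Y' A' j'}

/-- The linear atlas of the total space of an invertible module. -/
def atlas (hL : PicF.IsInvertible E') (hE : Coh.IsQCoh E') (hA : RelSpec.IsSymAlg E' A' j') :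
    GLinSh.LinAtlas (totHom Y' A') where
  affine := inferInstanceAs (IsAffineHom A'.π)
  chart := chart Y' A' j'
  cover x := by
    obtain ⟨U, hx, e, he⟩ := InvX.exists_frame hL x
    exact ⟨U, hx, _, e, he, rfl⟩
  coord := by
    rintro U _ ⟨e, he, rfl⟩ W hW hWU
    have := bijective_eval₂_tau hE hA hW (he.res hWU)
    rwa [show GLinSh.res (totHom Y' A') hWU (tau A' j' U e) = tau A' j' W (res E' hWU e) from tau_res A' j' hWU e]
  linear := by
    rintro U U' _ _ ⟨e, he, rfl⟩ ⟨e', he', rfl⟩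
    obtain ⟨c, hc⟩ := he.exists_coord (inf_le_left : U ⊓ U' ≤ U) (res E' inf_le_right e')
    obtain ⟨d, hd⟩ := he'.exists_coord (inf_le_right : U ⊓ U' ≤ U') (res E' inf_le_left e)
    refine ⟨c, .of_mul_eq_one d (he'.coord_unique inf_le_right ?_), ?_⟩
    · rw [one_smul, mul_smul, ← hd, ← hc]
    · have h1 := tau_res A' j' (inf_le_right : U ⊓ U' ≤ U') e'
      rw [hc, tau_smul, ← tau_res A' j' (inf_le_left : U ⊓ U' ≤ U) e] at h1
      exact h1

theorem hasWeight_tau_one (s : Coh.structureModule Y'.left ⟶ E') :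
    GLinSh.HasWeight (π := totHom Y' A') (chart Y' A' j') 1
      (tau A' j' ⊤ (InvX.one s) : Γ((totObj Y' A').left, ⊤)) := by
  rintro U _ ⟨e, he, rfl⟩
  obtain ⟨c, hc⟩ := he.exists_coord le_rfl (res E' le_top (InvX.one s))
  rw [res_self] at hc
  refine ⟨c, ?_⟩
  rw [pow_one]
  show A'.spec.presheaf.map _ (tau A' j' ⊤ (InvX.one s)) = A'.π.app U c * tau A' j' U e
  rw [← tau_smul, ← hc]
  exact tau_res A' j' (le_top : U ≤ ⊤) (InvX.one s)

/-- The non-vanishing locus of a tautological function is the generating locus. -/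
theorem nonvanishing_tau_one (hL : PicF.IsInvertible E') (hE : Coh.IsQCoh E')
    (hA : RelSpec.IsSymAlg E' A' j') (s : Coh.structureModule Y'.left ⟶ E') :
    GLinSh.nonvanishing (totHom Y' A') (tau A' j' ⊤ (InvX.one s) : Γ((totObj Y' A').left, ⊤)) =
      (CohB1.genLocus E' s : Set Y'.left) := by
  let f : Γ(A'.spec, A'.π ⁻¹ᵁ ⊤) := tau A' j' ⊤ (InvX.one s)
  have key : ∀ (x : Y'.left), ∃ (W : Y'.left.Opens) (e : Γ(E', W)) (c : Γ(Y'.left, W)), x ∈ W ∧ IsAffineOpen W ∧
      InvX.IsFrame e ∧ res E' (le_top : W ≤ ⊤) (InvX.one s) = c • e ∧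
      A'.spec.basicOpen f ⊓ A'.π ⁻¹ᵁ W = A'.π ⁻¹ᵁ Y'.left.basicOpen c ⊓ A'.spec.basicOpen (tau A' j' W e) := by
    intro x
    obtain ⟨U, hxU, e, he⟩ := InvX.exists_frame hL x
    obtain ⟨_, ⟨W, hW, rfl⟩, hxW, hle⟩ :=
      Y'.left.isBasis_affineOpens.exists_subset_of_mem_open (show x ∈ U from hxU) U.2
    have heW := he.res (show W ≤ U from hle)
    obtain ⟨c, hc⟩ := heW.exists_coord le_rfl (res E' (le_top : W ≤ ⊤) (InvX.one s))
    rw [res_self] at hc
    refine ⟨W, _, c, hxW, hW, heW, hc, ?_⟩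
    have hres := tau_res A' j' (le_top : W ≤ ⊤) (InvX.one s)
    rw [hc, tau_smul] at hres
    rw [Scheme.preimage_basicOpen, ← Scheme.basicOpen_mul, ← hres, Scheme.basicOpen_res, inf_comm]
  refine Set.ext fun x => ⟨?_, fun hx => ?_⟩
  · rintro ⟨v, hv, rfl⟩
    obtain ⟨W, e, c, hxW, hW, he, hc, heq⟩ := key (A'.π.base v)
    have h1 : v ∈ A'.spec.basicOpen f ⊓ A'.π ⁻¹ᵁ W := ⟨hv, hxW⟩
    rw [heq] at h1
    have h2 : A'.π.base v ∈ CohB1.genLocus E' s ⊓ W := by
      rw [InvX.genLocus_inf s he hc]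
      exact h1.1
    exact h2.1
  · obtain ⟨W, e, c, hxW, hW, he, hc, heq⟩ := key x
    have hxc : x ∈ Y'.left.basicOpen c := by
      rw [← InvX.genLocus_inf s he hc]
      exact ⟨hx, hxW⟩
    let P := Polynomial.eval₂RingHom (A'.π.app W).hom (tau A' j' W e)
    let Ψ := RingEquiv.ofBijective P (bijective_eval₂_tau hE hA hW he)
    let σ : Γ(A'.spec, A'.π ⁻¹ᵁ W) →+* Γ(Y'.left, W) :=
      (Polynomial.eval₂RingHom (RingHom.id _) 1).comp Ψ.symm.toRingHom
    have hσc : ∀ r, σ (A'.π.app W r) = r := fun r => by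
      have : Ψ.symm (A'.π.app W r) = Polynomial.C r := Ψ.symm_apply_eq.2 (by simp [Ψ, P])
      show Polynomial.eval₂RingHom (RingHom.id _) 1 (Ψ.symm (A'.π.app W r)) = r
      rw [this]
      simp
    have hσt : σ (tau A' j' W e) = 1 := by
      have : Ψ.symm (tau A' j' W e) = Polynomial.X := Ψ.symm_apply_eq.2 (by simp [Ψ, P])
      show Polynomial.eval₂RingHom (RingHom.id _) 1 (Ψ.symm (tau A' j' W e)) = 1
      rw [this]
      simp
    have hW' : IsAffineOpen (A'.π ⁻¹ᵁ W) := hW.preimage _
    let g : W.toScheme ⟶ A'.spec := hW.isoSpec.hom ≫ Spec.map (CommRingCat.ofHom σ) ≫ hW'.fromSpec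
    have hgπ : g ≫ A'.π = W.ι := by
      have h0 : hW'.fromSpec ≫ A'.π = Spec.map (A'.π.app W) ≫ hW.fromSpec := by
        rw [A'.π.app_eq_appLE]
        exact (hW.SpecMap_appLE_fromSpec A'.π hW' le_rfl).symm
      show (hW.isoSpec.hom ≫ Spec.map (CommRingCat.ofHom σ) ≫ hW'.fromSpec) ≫ A'.π = W.ι
      rw [Category.assoc, Category.assoc, h0, ← Spec.map_comp_assoc,
        show A'.π.app W ≫ CommRingCat.ofHom σ = 𝟙 _ from CommRingCat.hom_ext (RingHom.ext hσc), Spec.map_id,
        Category.id_comp, hW.isoSpec_hom_fromSpec]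
    let v := g.base ⟨x, hxW⟩
    have hv : A'.π.base v = x := by
      show (g ≫ A'.π).base ⟨x, hxW⟩ = x
      rw [hgπ]
      rfl
    refine ⟨v, ?_, hv⟩
    have h1 : v ∈ A'.spec.basicOpen (tau A' j' W e) := by
      show (hW.isoSpec.hom ≫ Spec.map (CommRingCat.ofHom σ)).base ⟨x, hxW⟩ ∈
        hW'.fromSpec ⁻¹ᵁ A'.spec.basicOpen (tau A' j' W e)
      rw [hW'.fromSpec_preimage_basicOpen]
      show tau A' j' W e ∉ ((hW.isoSpec.hom ≫ Spec.map (CommRingCat.ofHom σ)).base ⟨x, hxW⟩).asIdeal
      intro hmem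
      exact ((hW.isoSpec.hom.base ⟨x, hxW⟩).isPrime).one_notMem (by
        have : σ (tau A' j' W e) ∈ (hW.isoSpec.hom.base ⟨x, hxW⟩).asIdeal := hmem
        rwa [hσt] at this)
    have h2 : v ∈ A'.spec.basicOpen f ⊓ A'.π ⁻¹ᵁ W := by
      rw [heq]
      exact ⟨show A'.π.base v ∈ Y'.left.basicOpen c from hv ▸ hxc, h1⟩
    exact h2.1

end Atlas

end Groth.Agent.GITLin
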